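import Groth.Agent.ComodBasic.Coalg
import Groth.Agent.ComodBasic.Reductive
import Groth.Prelude.Def_SGA3y
import Groth.Prelude.Def_ComodSub
import Mathlib.RingTheory.Bialgebra.Basic

/-!
# The coradical filtration of a connected bialgebra (not assumed commutative)
-/

namespace Groth.Agent.CMM

open TensorProduct WithConv CoalgebraStruct HopfRep Groth.Agent.ComodBasic

universe u

variable {k : Type u} [Field k] {H : Type u} [Ring H] [Bialgebra k H]

/-- one semiring structure on functionals -/
noncomputable local instance (priority := 3000) cvSemiring : Semiring (Cv k H) :=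
  (cvRing : Ring (Cv k H)).toSemiring

theorem smul_one_regular (φ : Cv k H) : φ • (1 : H) = φ.ofConv 1 • (1 : H) := by
  rw [smul_def, act_apply, show Comod.coact (k := k) (A := H) (1 : H) = comul (R := k) (1 : H) from rfl,
    Bialgebra.comul_one, Algebra.TensorProduct.one_def, slice_tmul]

/-- fixed modulo `F` -/
noncomputable def step (F : Submodule (Cv k H) H) : Submodule (Cv k H) H where
  carrier := {v | ∀ φ : Cv k H, φ • v - φ.ofConv 1 • v ∈ F}
  add_mem' {a b} ha hb φ := by
    rw [smul_add, smul_add, add_sub_add_comm]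
    exact F.add_mem (ha φ) (hb φ)
  zero_mem' φ := by simp
  smul_mem' ψ v hv φ := by
    have h1 : φ • ψ • v - φ.ofConv 1 • ψ • v =
        (φ • (ψ • v - ψ.ofConv 1 • v) - φ.ofConv 1 • (ψ • v - ψ.ofConv 1 • v)) +
          ψ.ofConv 1 • (φ • v - φ.ofConv 1 • v) := by
      simp only [smul_sub, smul_comm φ (ψ.ofConv 1) v, smul_comm (φ.ofConv 1) (ψ.ofConv 1) v]
      abel
    rw [h1]
    exact F.add_mem (F.sub_mem (F.smul_mem φ (hv ψ)) (F.smul_of_tower_mem _ (hv ψ)))
      (F.smul_of_tower_mem _ (hv φ))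

variable (k H) in
/-- the filtration starting with the scalars -/
noncomputable def fil : ℕ → Submodule (Cv k H) H
  | 0 =>
    { carrier := {v | ∃ c : k, v = c • (1 : H)}
      add_mem' := fun ⟨a, ha⟩ ⟨b, hb⟩ => ⟨a + b, by rw [ha, hb, add_smul]⟩
      zero_mem' := ⟨0, (zero_smul k (1 : H)).symm⟩
      smul_mem' := fun φ v ⟨c, hc⟩ => ⟨c * φ.ofConv 1, by
        rw [hc, smul_comm, smul_one_regular, smul_smul]⟩ }
  | n + 1 => step (fil n)

theorem fil_mono : Monotone (fil k H) :=
  monotone_nat_of_le_succ fun n _ hv φ =>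
    (fil k H n).sub_mem ((fil k H n).smul_mem φ hv) ((fil k H n).smul_of_tower_mem _ hv)

variable {C : Type u} [AddCommGroup C] [Module k C] [Coalgebra k C]

/-- In a connected coalgebra simple comodules are trivial. -/
theorem exists_fixed (hconn : SGA3y.IsConnectedCoalg k H) {V : Type u} [AddCommGroup V] [Module k V]
    [Comod k H V] {M : Submodule (Cv k H) V} (hM : M ≠ ⊥) :
    ∃ w ∈ M, w ≠ 0 ∧ ∀ φ : Cv k H, φ • w = φ.ofConv 1 • w := by
  obtain ⟨S, hSM, hS⟩ := exists_simple_le hM
  obtain ⟨w, hwS, hw0⟩ := S.exists_mem_ne_zero_of_ne_bot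
    (Submodule.nontrivial_iff_ne_bot.1 (IsSimpleModule.nontrivial (Cv k H) S))
  let CS : Submodule (Cv k H) H := ⨆ g : V →ₗ[Cv k H] H, S.map g
  have hinv : CS.IsFullyInvariant := by
    intro h
    refine iSup_le fun g => ?_
    rintro _ ⟨m, hm, rfl⟩
    exact Submodule.mem_iSup_of_mem (h ∘ₗ g) ⟨m, hm, rfl⟩
  obtain ⟨f, hf⟩ := exists_hom_ne_zero (k := k) (C := H) hw0
  have hne : CS.restrictScalars k ≠ ⊥ := by
    rw [Ne, Submodule.restrictScalars_eq_bot_iff]
    intro h
    have h' : f w ∈ CS := Submodule.mem_iSup_of_mem f ⟨w, hwS, rfl⟩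
    rw [h] at h'
    exact hf h'
  have h1 : (1 : H) ∈ CS := hconn _ (isSubcoalg_restrict hinv) hne
  haveI : IsSemisimpleModule (Cv k H) CS := by
    change IsSemisimpleModule (Cv k H) ↥(⨆ g : V →ₗ[Cv k H] H, S.map g)
    rw [← iSup_univ]
    refine isSemisimpleModule_biSup_of_isSemisimpleModule_submodule fun g _ => ?_
    haveI : IsSemisimpleModule (Cv k H) S := inferInstance
    rw [show Submodule.map g S = LinearMap.range (g ∘ₗ S.subtype) by
      rw [LinearMap.range_comp, Submodule.range_subtype]]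
    exact IsSemisimpleModule.range _
  let L : Submodule (Cv k H) CS := (fil k H 0).comap CS.subtype
  obtain ⟨L', hL'⟩ := exists_isCompl L
  obtain ⟨g, hg⟩ : ∃ g : V →ₗ[Cv k H] H, ¬ S.map g ≤ L'.map CS.subtype := by
    by_contra h
    simp only [not_exists, not_not] at h
    obtain ⟨x, hx, hx'⟩ := (iSup_le h : CS ≤ _) h1
    have hx0 : x ∈ L ⊓ L' := ⟨show (x : H) ∈ fil k H 0 from ⟨1, by rw [one_smul]; exact hx'⟩, hx⟩
    rw [hL'.inf_eq_bot, Submodule.mem_bot] at hx0
    rw [hx0, map_zero] at hx'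
    have := congrArg (counit (R := k)) hx'
    rw [map_zero, Bialgebra.counit_one] at this
    exact zero_ne_one this
  let g' : S →ₗ[Cv k H] CS := (g ∘ₗ S.subtype).codRestrict CS
    fun s => Submodule.mem_iSup_of_mem g ⟨s, s.2, rfl⟩
  let p := L.projectionOnto L' hL'
  let T : S →ₗ[Cv k H] L := p ∘ₗ g'
  have hT : T ≠ 0 := by
    intro h
    refine hg ?_
    rintro _ ⟨s, hs, rfl⟩
    refine ⟨g' ⟨s, hs⟩, ?_, rfl⟩
    exact (Submodule.projectionOnto_apply_eq_zero_iff hL').1 (LinearMap.congr_fun h ⟨s, hs⟩)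
  haveI := hS
  have hTi : Function.Injective T := by
    rcases LinearMap.injective_or_eq_zero (R := Cv k H) (M := S) (N := L) T with h | h
    · exact h
    · exact absurd h hT
  refine ⟨w, hSM hwS, hw0, fun φ => ?_⟩
  have h : φ • (⟨w, hwS⟩ : S) = φ.ofConv 1 • (⟨w, hwS⟩ : S) := by
    refine hTi (Subtype.ext (Subtype.ext ?_))
    obtain ⟨c, hc⟩ := (T ⟨w, hwS⟩).2
    rw [map_smul, LinearMap.map_smul_of_tower]
    simp only [SetLike.val_smul, SetLike.val_smul_of_tower]
    rw [show (((T ⟨w, hwS⟩ : L) : CS) : H) = c • (1 : H) from hc, smul_comm, smul_one_regular,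
      smul_comm]
  exact congrArg Subtype.val h

/-- The filtration is exhaustive. -/
theorem exists_mem_fil (hconn : SGA3y.IsConnectedCoalg k H) (a : H) : ∃ n, a ∈ fil k H n := by
  obtain ⟨M, hM, haM⟩ :=
    exists_finite_subcomod_of_finite (k := k) (C := H) {a} (Set.finite_singleton a)
  haveI : Module.Finite k (M.restrictScalars k) := hM
  by_contra hcon
  simp only [not_exists] at hcon
  have hgrow : ∀ n, (M ⊓ fil k H n).restrictScalars k < (M ⊓ fil k H (n + 1)).restrictScalars k := by
    intro n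
    refine lt_of_le_of_ne (fun x hx => ⟨hx.1, fil_mono n.le_succ hx.2⟩) fun he => ?_
    have hN : IsSubcomod (k := k) (A := H) ((fil k H n).restrictScalars k) := isSubcomod_restrict _
    let N : Submodule k H := (fil k H n).restrictScalars k
    letI : Comod k H (H ⧸ N) := ComodSub.Comod.quot (Comod.regular k H) N hN
    let q : H →ₗ[Cv k H] H ⧸ N := toLin N.mkQ (ComodSub.isComodHom_mkQ (Comod.regular k H) N hN)
    have hne : M.map q ≠ ⊥ := by
      intro h
      refine hcon n ?_
      have h' : q a ∈ M.map q := ⟨a, haM rfl, rfl⟩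
      rw [h, Submodule.mem_bot] at h'
      exact (Submodule.Quotient.mk_eq_zero N).1 h'
    obtain ⟨w, ⟨m, hm, rfl⟩, hw0, hw⟩ := exists_fixed hconn hne
    refine hw0 ((Submodule.Quotient.mk_eq_zero N).2 ?_)
    suffices hm' : m ∈ (M ⊓ fil k H (n + 1)).restrictScalars k by
      rw [← he] at hm'
      exact hm'.2
    refine ⟨hm, fun φ => ?_⟩
    have h := hw φ
    rw [← map_smul, ← LinearMap.map_smul_of_tower] at h
    exact (Submodule.Quotient.eq N).1 h
  have hd : ∀ n, n ≤ Module.finrank k ((M ⊓ fil k H n).restrictScalars k) := by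
    intro n
    induction n with
    | zero => exact Nat.zero_le _
    | succ n ih =>
      haveI : Module.Finite k ((M ⊓ fil k H (n + 1)).restrictScalars k) :=
        Submodule.finiteDimensional_of_le (S₂ := M.restrictScalars k) fun x hx => hx.1
      exact Nat.lt_of_le_of_lt ih (Submodule.finrank_lt_finrank_of_lt (hgrow n))
  have h := (hd (Module.finrank k (M.restrictScalars k) + 1)).trans
    (Submodule.finrank_mono (t := M.restrictScalars k) fun x hx => hx.1)
  omega

/-- the reduced comultiplication lands in the square of the previous step -/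
theorem reduced_mem [Coalgebra.IsCocomm k H] {n : ℕ} {a : H} (ha : a ∈ fil k H (n + 1)) :
    comul (R := k) a - a ⊗ₜ[k] (1 : H) - (1 : H) ⊗ₜ[k] a + counit (R := k) a • ((1 : H) ⊗ₜ[k] (1 : H)) ∈
      LinearMap.range (TensorProduct.map ((fil k H n).restrictScalars k).subtype
        ((fil k H n).restrictScalars k).subtype) := by
  set z := comul (R := k) a - a ⊗ₜ[k] (1 : H) - (1 : H) ⊗ₜ[k] a +
    counit (R := k) a • ((1 : H) ⊗ₜ[k] (1 : H)) with hz
  have h1 : ∀ φ : H →ₗ[k] k, slice φ z ∈ (fil k H n).restrictScalars k := by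
    intro φ
    rw [hz, map_add, map_sub, map_sub, slice_tmul, slice_tmul, map_smul, slice_tmul]
    refine add_mem (sub_mem (ha (toConv φ)) ?_) ?_
    · exact Submodule.smul_mem _ _ (fil_mono (Nat.zero_le n) ⟨1, (one_smul k _).symm⟩)
    · exact Submodule.smul_mem _ _ (Submodule.smul_mem _ _
        (fil_mono (Nat.zero_le n) ⟨1, (one_smul k _).symm⟩))
  have hsym : TensorProduct.comm k H H z = z := by
    rw [hz]
    simp only [map_add, map_sub, map_smul, TensorProduct.comm_tmul, Coalgebra.comm_comul]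
    abel
  refine (mem_range_map_iff _ _ z).2 ⟨h1, fun ξ => ?_⟩
  have e : ∀ y : H ⊗[k] H, lslice ξ y = slice ξ (TensorProduct.comm k H H y) := by
    intro y
    induction y using TensorProduct.induction_on with
    | zero => simp
    | add p q hp hq => simp only [map_add, hp, hq]
    | tmul p q => simp
  rw [e, hsym]
  exact h1 ξ

end Groth.Agent.CMM
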