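import Groth.Agent.CMM.Conn
import Mathlib.Algebra.Lie.UniversalEnveloping
import Mathlib.RingTheory.TensorProduct.Maps
import Mathlib.RingTheory.Coalgebra.TensorProduct
import Mathlib.Algebra.Algebra.Operations
import Mathlib.RingTheory.Flat.Basic

/-!
# Cartier-Milnor-Moore without Poincaré-Birkhoff-Witt

The endomorphism `μ ∘ Δ` is a coalgebra map of a cocommutative bialgebra and is `2 ^ n` on the top
degree; both injectivity and surjectivity of `U(P) → H` follow by induction on the degree.
-/

namespace Groth.Agent.CMM

open TensorProduct CoalgebraStruct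
open scoped Groth.Agent.ComodBasic

universe u

attribute [local instance 100] LieRing.ofAssociativeRing

variable {k : Type u} [Field k] {L : Type u} [LieRing L] [LieAlgebra k L]

local notation "U" => UniversalEnvelopingAlgebra k L
local notation "ι" => (UniversalEnvelopingAlgebra.ι k : L →ₗ⁅k⁆ U)

variable (k L) in
/-- the constants and the generators -/
noncomputable def gens : Submodule k U := 1 ⊔ LinearMap.range (LieHom.toLinearMap ι)

/-- degree at most `n` -/
noncomputable def deg (n : ℕ) : Submodule k U := gens k L ^ n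

theorem ι_lie (x y : L) : ι ⁅x, y⁆ = ι x * ι y - ι y * ι x := by
  rw [LieHom.map_lie, LieRing.of_associative_ring_bracket]

theorem ι_mem_deg_one (x : L) : ι x ∈ deg (k := k) (L := L) 1 := by
  rw [deg, Submodule.pow_one]
  exact Submodule.mem_sup_right ⟨x, rfl⟩

theorem one_mem_deg (n : ℕ) : (1 : U) ∈ deg (k := k) (L := L) n := by
  induction n with
  | zero => rw [deg, Submodule.pow_zero]; exact Submodule.one_le.1 le_rfl
  | succ n ih =>
    rw [deg, Submodule.pow_succ, ← one_mul (1 : U)]
    exact Submodule.mul_mem_mul ih (Submodule.mem_sup_left (Submodule.one_le.1 le_rfl))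

theorem mul_mem_deg {i j : ℕ} {a b : U} (ha : a ∈ deg i) (hb : b ∈ deg j) : a * b ∈ deg (i + j) := by
  rw [deg, pow_add]
  exact Submodule.mul_mem_mul ha hb

theorem deg_mono : Monotone (deg (k := k) (L := L)) := by
  refine monotone_nat_of_le_succ fun n a ha => ?_
  rw [← mul_one a]
  exact mul_mem_deg ha (one_mem_deg 1)

theorem exists_mem_deg (u : U) : ∃ n, u ∈ deg (k := k) (L := L) n := by
  let S : Subalgebra k U :=
    { carrier := {u | ∃ n, u ∈ deg (k := k) (L := L) n}
      mul_mem' := fun ⟨i, ha⟩ ⟨j, hb⟩ => ⟨i + j, mul_mem_deg ha hb⟩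
      add_mem' := fun ⟨i, ha⟩ ⟨j, hb⟩ =>
        ⟨max i j, add_mem (deg_mono (le_max_left i j) ha) (deg_mono (le_max_right i j) hb)⟩
      algebraMap_mem' := fun r => ⟨0, by
        rw [Algebra.algebraMap_eq_smul_one]
        exact Submodule.smul_mem _ r (one_mem_deg 0)⟩ }
  let f : L →ₗ⁅k⁆ S :=
    { toFun := fun x => ⟨ι x, 1, ι_mem_deg_one x⟩
      map_add' := fun x y => Subtype.ext (by simp)
      map_smul' := fun c x => Subtype.ext (by simp)
      map_lie' := fun {x y} => Subtype.ext (by
        show ι ⁅x, y⁆ = _
        rw [ι_lie, LieRing.of_associative_ring_bracket]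
        rfl) }
  have h : S.val.comp (UniversalEnvelopingAlgebra.lift k f) = AlgHom.id k U :=
    UniversalEnvelopingAlgebra.hom_ext k (LieHom.ext fun x => by simp [f])
  have h2 := DFunLike.congr_fun h u
  rw [AlgHom.comp_apply, AlgHom.id_apply] at h2
  rw [← h2]
  exact (UniversalEnvelopingAlgebra.lift k f u).2

theorem mem_deg_zero {a : U} : a ∈ deg (k := k) (L := L) 0 ↔ ∃ c : k, a = c • 1 := by
  rw [deg, Submodule.pow_zero, Submodule.mem_one]
  simp [Algebra.algebraMap_eq_smul_one, eq_comm]

theorem mem_deg_one {a : U} (ha : a ∈ deg (k := k) (L := L) 1) :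
    ∃ (c : k) (x : L), a = c • 1 + ι x := by
  rw [deg, Submodule.pow_one, gens, Submodule.mem_sup] at ha
  obtain ⟨y, hy, z, ⟨x, rfl⟩, rfl⟩ := ha
  obtain ⟨c, rfl⟩ := Submodule.mem_one.1 hy
  exact ⟨c, x, by rw [Algebra.algebraMap_eq_smul_one]; rfl⟩

theorem comm_mem_deg (x : L) : ∀ (i : ℕ) (a : U), a ∈ deg (k := k) (L := L) i →
    a * ι x - ι x * a ∈ deg (k := k) (L := L) i
  | 0, a, ha => by
    obtain ⟨c, rfl⟩ := mem_deg_zero.1 ha
    simp
  | i + 1, a, ha => by
    rw [deg, Submodule.pow_succ] at ha
    induction ha using Submodule.mul_induction_on' with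
    | mem_mul_mem p hp w hw =>
      have hw' : w * ι x - ι x * w ∈ deg (k := k) (L := L) 1 := by
        obtain ⟨c, y, rfl⟩ := mem_deg_one (a := w) (by rw [deg, Submodule.pow_one]; exact hw)
        have : (c • 1 + ι y) * ι x - ι x * (c • 1 + ι y) = ι ⁅y, x⁆ := by
          rw [ι_lie, add_mul, mul_add, smul_mul_assoc, one_mul, mul_smul_comm, mul_one]; abel
        rw [this]
        exact ι_mem_deg_one _
      have : p * w * ι x - ι x * (p * w) =
          p * (w * ι x - ι x * w) + (p * ι x - ι x * p) * w := by noncomm_ring
      rw [this]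
      exact add_mem (mul_mem_deg hp hw')
        (mul_mem_deg (comm_mem_deg x i p hp) (by rw [deg, Submodule.pow_one]; exact hw))
    | add p hp q hq hp' hq' =>
      have : (p + q) * ι x - ι x * (p + q) = (p * ι x - ι x * p) + (q * ι x - ι x * q) := by
        noncomm_ring
      rw [this]
      exact add_mem hp' hq'

variable (k L) in
/-- total degree at most `n` -/
noncomputable def deg2 (n : ℕ) : Submodule k (U ⊗[k] U) :=
  Submodule.span k {t | ∃ i j, i + j ≤ n ∧ ∃ a ∈ deg (k := k) (L := L) i,
    ∃ b ∈ deg (k := k) (L := L) j, t = a ⊗ₜ[k] b}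

theorem tmul_mem_deg2 {i j n : ℕ} (h : i + j ≤ n) {a b : U} (ha : a ∈ deg i) (hb : b ∈ deg j) :
    a ⊗ₜ[k] b ∈ deg2 k L n := Submodule.subset_span ⟨i, j, h, a, ha, b, hb, rfl⟩

theorem deg2_mono : Monotone (deg2 k L) := fun _ _ h => Submodule.span_mono
  fun _ ⟨i, j, hij, r⟩ => ⟨i, j, hij.trans h, r⟩

theorem mul_mem_deg2 {m n : ℕ} {s t : U ⊗[k] U} (hs : s ∈ deg2 k L m) (ht : t ∈ deg2 k L n) :
    s * t ∈ deg2 k L (m + n) := by
  refine SetLike.le_def.1 ?_ (Submodule.mul_mem_mul hs ht)
  rw [deg2, deg2, Submodule.span_mul_span, Submodule.span_le]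
  rintro _ ⟨_, ⟨i, j, hij, a, ha, b, hb, rfl⟩, _, ⟨i', j', hij', a', ha', b', hb', rfl⟩, rfl⟩
  show (a ⊗ₜ[k] b) * (a' ⊗ₜ[k] b') ∈ deg2 k L (m + n)
  rw [Algebra.TensorProduct.tmul_mul_tmul]
  exact tmul_mem_deg2 (by omega) (mul_mem_deg ha ha') (mul_mem_deg hb hb')

variable (k L) in
/-- comultiplication of the enveloping algebra -/
noncomputable def uComul : U →ₐ[k] U ⊗[k] U :=
  UniversalEnvelopingAlgebra.lift k
    { toFun := fun x => ι x ⊗ₜ[k] (1 : U) + (1 : U) ⊗ₜ[k] ι x
      map_add' := fun x y => by rw [map_add, add_tmul, tmul_add]; abel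
      map_smul' := fun c x => by
        rw [map_smul, RingHom.id_apply, smul_add, smul_tmul', tmul_smul]
      map_lie' := fun {x y} => by
        simp only [ι_lie]
        rw [LieRing.of_associative_ring_bracket]
        simp only [add_mul, mul_add, Algebra.TensorProduct.tmul_mul_tmul, one_mul, mul_one,
          TensorProduct.sub_tmul, TensorProduct.tmul_sub]
        abel }

theorem uComul_ι (x : L) : uComul k L (ι x) = ι x ⊗ₜ[k] (1 : U) + (1 : U) ⊗ₜ[k] ι x := by
  simp [uComul]

theorem uComul_mem (n : ℕ) : ∀ u : U, u ∈ deg (k := k) (L := L) n → uComul k L u ∈ deg2 k L n := by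
  induction n with
  | zero =>
    intro u hu
    obtain ⟨c, rfl⟩ := mem_deg_zero.1 hu
    rw [map_smul, map_one, Algebra.TensorProduct.one_def]
    exact Submodule.smul_mem _ _ (tmul_mem_deg2 (i := 0) (j := 0) le_rfl (one_mem_deg 0) (one_mem_deg 0))
  | succ n ih =>
    intro u hu
    rw [deg, Submodule.pow_succ] at hu
    induction hu using Submodule.mul_induction_on' with
    | mem_mul_mem p hp w hw =>
      obtain ⟨c, y, rfl⟩ := mem_deg_one (a := w) (by rw [deg, Submodule.pow_one]; exact hw)
      rw [map_mul, map_add, map_smul, map_one, uComul_ι, Algebra.TensorProduct.one_def]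
      refine mul_mem_deg2 (ih p hp) (add_mem (Submodule.smul_mem _ _ ?_) (add_mem ?_ ?_))
      · exact tmul_mem_deg2 (i := 0) (j := 0) (Nat.zero_le _) (one_mem_deg 0) (one_mem_deg 0)
      · exact tmul_mem_deg2 (by omega) (ι_mem_deg_one y) (one_mem_deg 0)
      · exact tmul_mem_deg2 (by omega) (one_mem_deg 0) (ι_mem_deg_one y)
    | add p hp q hq hp' hq' => rw [map_add]; exact add_mem hp' hq'

variable (k L) in
/-- multiply after comultiplying -/
noncomputable def uSq : U →ₗ[k] U := LinearMap.mul' k U ∘ₗ (uComul k L).toLinearMap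

theorem uSq_one : uSq k L 1 = 1 := by simp [uSq, Algebra.TensorProduct.one_def]

theorem uSq_sub_mem : ∀ (n : ℕ) (u : U), u ∈ deg (k := k) (L := L) (n + 1) →
    uSq k L u - (2 : k) ^ (n + 1) • u ∈ deg (k := k) (L := L) n := by
  suffices h : ∀ (n : ℕ) (u : U), u ∈ deg (k := k) (L := L) n →
      uSq k L u - (2 : k) ^ n • u ∈ deg (k := k) (L := L) (n - 1) ∧
        (n = 0 → uSq k L u = u) from fun n u hu => (h (n + 1) u hu).1
  intro n
  induction n with
  | zero =>
    intro u hu
    obtain ⟨c, rfl⟩ := mem_deg_zero.1 hu
    refine ⟨?_, fun _ => by rw [map_smul, uSq_one]⟩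
    rw [map_smul, uSq_one, pow_zero, one_smul, sub_self]
    exact zero_mem _
  | succ n ih =>
    intro u hu
    refine ⟨?_, fun h => by omega⟩
    show _ ∈ deg (k := k) (L := L) n
    rw [deg, pow_succ'] at hu
    induction hu using Submodule.mul_induction_on' with
    | add p hp q hq hp' hq' =>
      rw [map_add, smul_add, add_sub_add_comm]; exact add_mem hp' hq'
    | mem_mul_mem w hw p hp =>
      obtain ⟨c, y, rfl⟩ := mem_deg_one (a := w) (by rw [deg, Submodule.pow_one]; exact hw)
      rw [add_mul, map_add, smul_add, add_sub_add_comm]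
      have hp0 : uSq k L p - (2 : k) ^ n • p ∈ deg (k := k) (L := L) (n - 1) := (ih p hp).1
      refine add_mem ?_ ?_
      · rw [smul_mul_assoc, one_mul, map_smul]
        refine sub_mem (Submodule.smul_mem _ _ ?_) (Submodule.smul_mem _ _ (Submodule.smul_mem _ _ hp))
        have : uSq k L p = (uSq k L p - (2 : k) ^ n • p) + (2 : k) ^ n • p := by abel
        rw [this]
        exact add_mem (deg_mono (Nat.sub_le n 1) hp0) (Submodule.smul_mem _ _ hp)
      · have hd : ∀ t ∈ deg2 k L n,
            LinearMap.mul' k U (((1 : U) ⊗ₜ[k] ι y) * t) - ι y * LinearMap.mul' k U t ∈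
              deg (k := k) (L := L) n := by
          intro t ht
          induction ht using Submodule.span_induction with
          | mem t ht =>
            obtain ⟨i, j, hij, a, ha, b, hb, rfl⟩ := ht
            rw [Algebra.TensorProduct.tmul_mul_tmul, one_mul, LinearMap.mul'_apply,
              LinearMap.mul'_apply, ← mul_assoc, ← mul_assoc, ← sub_mul]
            exact deg_mono hij (mul_mem_deg (comm_mem_deg y i a ha) hb)
          | zero => simp
          | add s t _ _ hs ht =>
            rw [mul_add, map_add, map_add, mul_add, add_sub_add_comm]; exact add_mem hs ht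
          | smul r t _ ht =>
            rw [mul_smul_comm, map_smul, map_smul, mul_smul_comm, ← smul_sub]
            exact Submodule.smul_mem _ _ ht
        have he : ∀ t : U ⊗[k] U,
            LinearMap.mul' k U ((ι y ⊗ₜ[k] (1 : U)) * t) = ι y * LinearMap.mul' k U t := by
          intro t
          induction t using TensorProduct.induction_on with
          | zero => simp
          | add s t hs ht => rw [mul_add, map_add, map_add, mul_add, hs, ht]
          | tmul a b => simp [mul_assoc]
        have h1 : uSq k L (ι y * p) - (2 : k) ^ (n + 1) • (ι y * p) =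
            (LinearMap.mul' k U (((1 : U) ⊗ₜ[k] ι y) * uComul k L p) - ι y * uSq k L p) +
              (2 : k) • (ι y * (uSq k L p - (2 : k) ^ n • p)) := by
          simp only [uSq, LinearMap.comp_apply, AlgHom.toLinearMap_apply, map_mul, uComul_ι, add_mul,
            map_add, he]
          rw [mul_sub, mul_smul_comm, smul_sub, smul_smul, ← pow_succ', two_smul]
          abel
        rw [h1]
        refine add_mem (hd _ (uComul_mem n p hp)) (Submodule.smul_mem _ _ ?_)
        rcases Nat.eq_zero_or_pos n with rfl | hn
        · rw [(ih p hp).2 rfl, pow_zero, one_smul, sub_self, mul_zero]; exact zero_mem _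
        · exact deg_mono (by omega) (mul_mem_deg (ι_mem_deg_one y) hp0)

theorem uSq_mem (n : ℕ) (u : U) (hu : u ∈ deg (k := k) (L := L) n) :
    uSq k L u ∈ deg (k := k) (L := L) n := by
  cases n with
  | zero =>
    obtain ⟨c, rfl⟩ := mem_deg_zero.1 hu
    rw [map_smul, uSq_one]; exact hu
  | succ n =>
    have : uSq k L u = (uSq k L u - (2 : k) ^ (n + 1) • u) + (2 : k) ^ (n + 1) • u := by abel
    rw [this]
    exact add_mem (deg_mono n.le_succ (uSq_sub_mem n u hu)) (Submodule.smul_mem _ _ hu)

theorem uSq_deg2 {n : ℕ} {t : U ⊗[k] U} (ht : t ∈ deg2 k L (n + 1)) :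
    TensorProduct.map (uSq k L) (uSq k L) t - (2 : k) ^ (n + 1) • t ∈ deg2 k L n := by
  induction ht using Submodule.span_induction with
  | zero => simp
  | add s t _ _ hs ht => rw [map_add, smul_add, add_sub_add_comm]; exact add_mem hs ht
  | smul r t _ ht =>
    rw [map_smul, smul_comm _ r, ← smul_sub]; exact Submodule.smul_mem _ _ ht
  | mem t ht =>
    obtain ⟨i, j, hij, a, ha, b, hb, rfl⟩ := ht
    rw [TensorProduct.map_tmul]
    rcases Nat.lt_or_ge (i + j) (n + 1) with h | h
    · exact sub_mem (tmul_mem_deg2 (by omega) (uSq_mem i a ha) (uSq_mem j b hb))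
        (Submodule.smul_mem _ _ (tmul_mem_deg2 (by omega) ha hb))
    have hn : i + j = n + 1 := by omega
    rw [← hn, pow_add, show uSq k L a ⊗ₜ[k] uSq k L b - ((2 : k) ^ i * (2 : k) ^ j) • (a ⊗ₜ[k] b) =
        (uSq k L a - (2 : k) ^ i • a) ⊗ₜ[k] uSq k L b +
          (2 : k) ^ i • (a ⊗ₜ[k] (uSq k L b - (2 : k) ^ j • b)) by
      simp only [sub_tmul, tmul_sub, smul_sub, tmul_smul, smul_tmul', smul_smul]; abel]
    refine add_mem ?_ (Submodule.smul_mem _ _ ?_)
    · cases i with
      | zero =>
        obtain ⟨c, rfl⟩ := mem_deg_zero.1 ha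
        simp [map_smul, uSq_one]
      | succ i => exact tmul_mem_deg2 (by omega) (uSq_sub_mem i a ha) (uSq_mem j b hb)
    · cases j with
      | zero =>
        obtain ⟨c, rfl⟩ := mem_deg_zero.1 hb
        simp [map_smul, uSq_one]
      | succ j => exact tmul_mem_deg2 (by omega) ha (uSq_sub_mem j b hb)

section Hom

variable {H : Type u} [Ring H] [Bialgebra k H]

variable (k H) in
/-- the projection to the augmentation ideal -/
noncomputable def red : H →ₗ[k] H :=
  LinearMap.id - (LinearMap.toSpanSingleton k H 1) ∘ₗ counit

@[simp] theorem red_apply (a : H) : red k H a = a - counit (R := k) a • 1 := rfl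

theorem red_comul (h : H) :
    TensorProduct.map (red k H) (red k H) (comul (R := k) h) =
      comul (R := k) h - h ⊗ₜ[k] (1 : H) - (1 : H) ⊗ₜ[k] h +
        counit (R := k) h • ((1 : H) ⊗ₜ[k] (1 : H)) := by
  have h1 := congrArg (fun t => (LinearMap.toSpanSingleton k H 1).rTensor H t)
    (Coalgebra.rTensor_counit_comul (R := k) h)
  have h2 := congrArg (fun t => (LinearMap.toSpanSingleton k H 1).lTensor H t)
    (Coalgebra.lTensor_counit_comul (R := k) h)
  have h3 := congrArg (counit (R := k) (A := H))
    (congrArg (TensorProduct.rid k H) (Coalgebra.lTensor_counit_comul (R := k) h))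
  simp only [LinearMap.rTensor_tmul, LinearMap.toSpanSingleton_apply, one_smul] at h1
  simp only [LinearMap.lTensor_tmul, LinearMap.toSpanSingleton_apply, one_smul] at h2
  simp only [TensorProduct.rid_tmul, one_smul] at h3
  rw [← h1, ← h2]
  conv_rhs => arg 2; rw [← h3]
  generalize comul (R := k) h = z
  induction z using TensorProduct.induction_on with
  | zero => simp
  | add x y hx hy => simp only [map_add, add_smul, hx, hy]; abel
  | tmul a b =>
    simp [sub_tmul, tmul_sub, smul_tmul', tmul_smul, smul_smul, mul_comm, smul_sub]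
    abel

variable (k H) in
/-- multiply after comultiplying -/
noncomputable def sq : H →ₗ[k] H := LinearMap.mul' k H ∘ₗ comul

theorem comul_sq [Coalgebra.IsCocomm k H] (h : H) :
    comul (R := k) (sq k H h) = TensorProduct.map (sq k H) (sq k H) (comul (R := k) h) := by
  have h1 := LinearMap.congr_fun (Coalgebra.comulCoalgHom k H).map_comp_comul h
  simp only [LinearMap.comp_apply] at h1
  have h2 : ∀ z : H ⊗[k] H, comul (R := k) (LinearMap.mul' k H z) =
      TensorProduct.map (LinearMap.mul' k H) (LinearMap.mul' k H) (comul (R := k) z) := by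
    intro z
    induction z using TensorProduct.induction_on with
    | zero => simp
    | add x y hx hy => simp only [map_add, hx, hy]
    | tmul a b =>
      rw [LinearMap.mul'_apply, Bialgebra.comul_mul, TensorProduct.comul_tmul]
      generalize comul (R := k) a = p
      generalize comul (R := k) b = q
      induction p using TensorProduct.induction_on with
      | zero => simp
      | add x y hx hy => simp only [add_mul, add_tmul, map_add, hx, hy]
      | tmul a₁ a₂ =>
        induction q using TensorProduct.induction_on with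
        | zero => simp
        | add x y hx hy => simp only [mul_add, tmul_add, map_add, hx, hy]
        | tmul b₁ b₂ => simp
  rw [sq, LinearMap.comp_apply, h2]
  rw [show comul (R := k) (comul (R := k) h) = TensorProduct.map comul comul (comul (R := k) h) from
    h1.symm, ← LinearMap.comp_apply, ← TensorProduct.map_comp]

theorem counit_sq (h : H) : counit (R := k) (sq k H h) = counit (R := k) h := by
  have h3 := congrArg (counit (R := k) (A := H))
    (congrArg (TensorProduct.rid k H) (Coalgebra.lTensor_counit_comul (R := k) h))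
  simp only [TensorProduct.rid_tmul, one_smul] at h3
  conv_rhs => rw [← h3]
  rw [sq, LinearMap.comp_apply]
  generalize comul (R := k) h = z
  induction z using TensorProduct.induction_on with
  | zero => simp
  | add x y hx hy => simp only [map_add, hx, hy]
  | tmul a b => simp [mul_comm]

variable (Φ : UniversalEnvelopingAlgebra k L →ₐ[k] H)
  (hΦ : ∀ x : L, comul (R := k) (Φ (UniversalEnvelopingAlgebra.ι k x)) =
    Φ (UniversalEnvelopingAlgebra.ι k x) ⊗ₜ[k] (1 : H) + (1 : H) ⊗ₜ[k] Φ (UniversalEnvelopingAlgebra.ι k x))

local notation "Φ₂" => TensorProduct.map (AlgHom.toLinearMap Φ) (AlgHom.toLinearMap Φ)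

include hΦ

theorem comul_hom (u : U) : comul (R := k) (Φ u) = Φ₂ (uComul k L u) := by
  have h : (Bialgebra.comulAlgHom k H).comp Φ = (Algebra.TensorProduct.map Φ Φ).comp (uComul k L) :=
    UniversalEnvelopingAlgebra.hom_ext k (LieHom.ext fun x => by simp [-UniversalEnvelopingAlgebra.ι_apply, uComul_ι, hΦ])
  exact DFunLike.congr_fun h u

theorem sq_hom (u : U) : sq k H (Φ u) = Φ (uSq k L u) := by
  rw [sq, LinearMap.comp_apply, comul_hom Φ hΦ, uSq, LinearMap.comp_apply, AlgHom.toLinearMap_apply]
  generalize uComul k L u = t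
  induction t using TensorProduct.induction_on with
  | zero => simp
  | add x y hx hy => simp only [map_add, hx, hy]
  | tmul a b => simp

theorem red_deg2_one {t : U ⊗[k] U} (ht : t ∈ deg2 k L 1) :
    TensorProduct.map (red k H) (red k H) (Φ₂ t) = 0 := by
  induction ht using Submodule.span_induction with
  | zero => simp
  | add s t _ _ hs ht => rw [map_add, map_add, hs, ht, add_zero]
  | smul r t _ ht => rw [map_smul, map_smul, ht, smul_zero]
  | mem t ht =>
    obtain ⟨i, j, hij, a, ha, b, hb, rfl⟩ := ht
    rcases (show i = 0 ∨ j = 0 by omega) with rfl | rfl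
    · obtain ⟨c, rfl⟩ := mem_deg_zero.1 ha
      simp
    · obtain ⟨c, rfl⟩ := mem_deg_zero.1 hb
      simp

theorem injective_of_injective_on (hinj : Function.Injective fun x : L => Φ (UniversalEnvelopingAlgebra.ι k x))
    [CharZero k] : Function.Injective Φ := by
  suffices h : ∀ (n : ℕ) (u : U), u ∈ deg (k := k) (L := L) n → Φ u = 0 → u = 0 by
    refine (injective_iff_map_eq_zero Φ).2 fun u hu => ?_
    obtain ⟨n, hn⟩ := exists_mem_deg u
    exact h n u hn hu
  intro n
  induction n using Nat.strong_induction_on with
  | _ n ih =>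
    intro u hu h0
    rcases Nat.lt_or_ge n 2 with hn | hn
    · obtain ⟨c, x, rfl⟩ := mem_deg_one (deg_mono (by omega : n ≤ 1) hu)
      have hε : counit (R := k) (Φ (ι x)) = 0 := by
        have h := congrArg (fun t => TensorProduct.lid k H (LinearMap.rTensor H counit t)) (hΦ x)
        simp only [Coalgebra.rTensor_counit_comul, map_add, LinearMap.rTensor_tmul, lid_tmul,
          Bialgebra.counit_one, one_smul] at h
        have h' := congrArg (counit (R := k)) h
        simpa using h'
      rw [map_add, map_smul, map_one] at h0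
      have hc : c = 0 := by
        have h := congrArg (counit (R := k)) h0
        rw [map_add, map_smul, hε, Bialgebra.counit_one, map_zero, add_zero, smul_eq_mul, mul_one] at h
        exact h
      subst hc
      rw [zero_smul, zero_add] at h0
      have : x = 0 := hinj (h0.trans (by simp))
      simp [this]
    obtain ⟨m, rfl⟩ : ∃ m, n = m + 2 := ⟨n - 2, by omega⟩
    have hε : ∀ a : U, Φ a = 0 → uSq k L a - 2 • a ∈ deg (k := k) (L := L) 0 → uSq k L a = 2 • a := by
      intro a ha hm
      obtain ⟨c, hc⟩ := mem_deg_zero.1 hm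
      have h := congrArg Φ hc
      rw [map_sub, map_nsmul, ha, smul_zero, sub_zero, ← sq_hom Φ hΦ, ha, map_zero, map_smul, map_one]
        at h
      have h' := congrArg (counit (R := k)) h.symm
      rw [map_smul, Bialgebra.counit_one, map_zero, smul_eq_mul, mul_one] at h'
      rwa [h', zero_smul, sub_eq_zero] at hc
    -- the reduced comultiplication in `U`
    let εU : U →ₗ[k] k := counit ∘ₗ Φ.toLinearMap
    let rU : U →ₗ[k] U := LinearMap.id - (LinearMap.toSpanSingleton k U 1) ∘ₗ εU
    have hr : ∀ a, Φ (rU a) = red k H (Φ a) := fun a => by simp [rU, εU]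
    let W := deg (k := k) (L := L) (m + 1)
    have hmem : TensorProduct.map rU rU (uComul k L u) ∈
        LinearMap.range (TensorProduct.map W.subtype W.subtype) := by
      have hd := uComul_mem (m + 2) u hu
      generalize uComul k L u = t at hd ⊢
      induction hd using Submodule.span_induction with
      | zero => simp
      | add s t _ _ hs ht => rw [map_add]; exact add_mem hs ht
      | smul r t _ ht => rw [map_smul]; exact Submodule.smul_mem _ _ ht
      | mem t ht =>
        obtain ⟨i, j, hij, a, ha, b, hb, rfl⟩ := ht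
        rw [TensorProduct.map_tmul]
        have hconst : ∀ a ∈ deg (k := k) (L := L) 0, rU a = 0 := by
          intro a ha
          obtain ⟨c, rfl⟩ := mem_deg_zero.1 ha
          simp [rU, εU]
        rcases Nat.eq_zero_or_pos i with rfl | hi
        · rw [hconst a ha, zero_tmul]; exact zero_mem _
        rcases Nat.eq_zero_or_pos j with rfl | hj
        · rw [hconst b hb, tmul_zero]; exact zero_mem _
        have hrm : ∀ (l : ℕ) (a : U), a ∈ deg (k := k) (L := L) l → l ≤ m + 1 → rU a ∈ W :=
          fun l a ha hl => sub_mem (deg_mono hl ha) (Submodule.smul_mem _ _ (one_mem_deg _))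
        exact ⟨⟨_, hrm i a ha (by omega)⟩ ⊗ₜ ⟨_, hrm j b hb (by omega)⟩, rfl⟩
    obtain ⟨z, hz⟩ := hmem
    have hcomp : TensorProduct.map (red k H) (red k H) (Φ₂ (uComul k L u)) =
        Φ₂ (TensorProduct.map rU rU (uComul k L u)) := by
      generalize uComul k L u = t
      induction t using TensorProduct.induction_on with
      | zero => simp
      | add x y hx hy => simp only [map_add, hx, hy]
      | tmul a b => simp only [TensorProduct.map_tmul, AlgHom.toLinearMap_apply, hr]
    rw [← comul_hom Φ hΦ, h0, map_zero, map_zero, ← hz, ← LinearMap.comp_apply,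
      ← TensorProduct.map_comp] at hcomp
    have hWi : Function.Injective (Φ.toLinearMap ∘ₗ W.subtype) := by
      refine (injective_iff_map_eq_zero _).2 fun a ha => Subtype.ext ?_
      exact ih (m + 1) (by omega) a a.2 ha
    have hz0 : z = 0 :=
      TensorProduct.map_injective_of_flat_flat _ _ hWi hWi (hcomp.symm.trans (map_zero _).symm)
    rw [hz0, map_zero] at hz
    -- so `μ Δ u` is `2 u` up to constants
    have h2 : uSq k L u - 2 • u ∈ deg (k := k) (L := L) 0 := by
      have h := congrArg (LinearMap.mul' k U) hz
      have hstr : ∀ t : U ⊗[k] U, LinearMap.mul' k U (TensorProduct.map rU rU t) =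
          LinearMap.mul' k U t - TensorProduct.rid k U (εU.lTensor U t)
            - TensorProduct.lid k U (εU.rTensor U t)
            + εU (TensorProduct.rid k U (εU.lTensor U t)) • 1 := by
        intro t
        induction t using TensorProduct.induction_on with
        | zero => simp
        | add x y hx hy => simp only [map_add, add_smul, hx, hy]; abel
        | tmul a b => simp [rU, sub_mul, mul_sub, smul_smul, smul_sub, εU, mul_comm]; abel
      rw [map_zero, hstr] at h
      have hr1 : ∀ w : U, TensorProduct.rid k U (εU.lTensor U (uComul k L w)) = w := by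
        have e : ((Algebra.TensorProduct.rid k k U).toAlgHom.comp ((Algebra.TensorProduct.map
            (AlgHom.id k U) ((Bialgebra.counitAlgHom k H).comp Φ)).comp (uComul k L))) =
              AlgHom.id k U :=
          UniversalEnvelopingAlgebra.hom_ext k (LieHom.ext fun x => by
            have hε : counit (R := k) (Φ (ι x)) = 0 := by
              have h := congrArg (fun t => TensorProduct.lid k H (LinearMap.rTensor H counit t)) (hΦ x)
              simp only [Coalgebra.rTensor_counit_comul, map_add, LinearMap.rTensor_tmul, lid_tmul,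
                Bialgebra.counit_one, one_smul] at h
              simpa using congrArg (counit (R := k)) h
            simp [-UniversalEnvelopingAlgebra.ι_apply, uComul_ι, hε])
        intro w
        refine Eq.trans ?_ (DFunLike.congr_fun e w)
        simp only [AlgHom.comp_apply]
        generalize uComul k L w = t
        induction t using TensorProduct.induction_on with
        | zero => simp
        | add x y hx hy => simp only [map_add, hx, hy]
        | tmul a b => simp [εU]
      have hl1 : ∀ w : U, TensorProduct.lid k U (εU.rTensor U (uComul k L w)) = w := by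
        have e : ((Algebra.TensorProduct.lid k U).toAlgHom.comp ((Algebra.TensorProduct.map
            ((Bialgebra.counitAlgHom k H).comp Φ) (AlgHom.id k U)).comp (uComul k L))) =
              AlgHom.id k U :=
          UniversalEnvelopingAlgebra.hom_ext k (LieHom.ext fun x => by
            have hε : counit (R := k) (Φ (ι x)) = 0 := by
              have h := congrArg (fun t => TensorProduct.lid k H (LinearMap.rTensor H counit t)) (hΦ x)
              simp only [Coalgebra.rTensor_counit_comul, map_add, LinearMap.rTensor_tmul, lid_tmul,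
                Bialgebra.counit_one, one_smul] at h
              simpa using congrArg (counit (R := k)) h
            simp [-UniversalEnvelopingAlgebra.ι_apply, uComul_ι, hε])
        intro w
        refine Eq.trans ?_ (DFunLike.congr_fun e w)
        simp only [AlgHom.comp_apply]
        generalize uComul k L w = t
        induction t using TensorProduct.induction_on with
        | zero => simp
        | add x y hx hy => simp only [map_add, hx, hy]
        | tmul a b => simp [εU]
      rw [hr1, hl1, show εU u = counit (R := k) (Φ u) from rfl, h0, map_zero, zero_smul, add_zero,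
        sub_sub, ← two_nsmul] at h
      rw [show uSq k L u - 2 • u = 0 from h.symm]
      exact zero_mem _
    have h2' := hε u h0 h2
    have htop := uSq_sub_mem (m + 1) u hu
    rw [h2', ← Nat.cast_smul_eq_nsmul k, ← sub_smul] at htop
    have hne : ((2 : ℕ) : k) - (2 : k) ^ (m + 1 + 1) ≠ 0 := by
      have h : ((2 : ℕ) : k) ≠ ((2 ^ (m + 1 + 1) : ℕ) : k) := by
        simp only [ne_eq, Nat.cast_inj]
        have : 2 ^ 2 ≤ 2 ^ (m + 1 + 1) := Nat.pow_le_pow_right (by omega) (by omega)
        omega
      rw [sub_ne_zero]
      simpa using h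
    exact ih (m + 1) (by omega) u ((Submodule.smul_mem_iff _ hne).1 htop) h0

theorem mem_range_of_reduced [Coalgebra.IsCocomm k H] [CharZero k]
    (hprim : ∀ p : H, comul (R := k) p = p ⊗ₜ[k] (1 : H) + (1 : H) ⊗ₜ[k] p → p ∈ Φ.range) :
    ∀ (n : ℕ) (h : H), counit (R := k) h = 0 →
      (∃ t ∈ deg2 k L n, TensorProduct.map (red k H) (red k H) (comul (R := k) h) =
        TensorProduct.map (red k H) (red k H) (Φ₂ t)) → h ∈ Φ.range := by
  intro n
  induction n using Nat.strong_induction_on with
  | _ n ih =>
    rintro h hε ⟨t, ht, he⟩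
    rcases Nat.lt_or_ge n 2 with hn | hn
    · rw [red_deg2_one Φ hΦ (deg2_mono (by omega : n ≤ 1) ht), red_comul, hε, zero_smul, add_zero,
        sub_eq_zero] at he
      exact hprim h (eq_add_of_sub_eq' he)
    obtain ⟨m, rfl⟩ : ∃ m, n = m + 2 := ⟨n - 2, by omega⟩
    let h' := sq k H h - (2 : k) ^ (m + 2) • h
    have hh' : h' ∈ Φ.range := by
      refine ih (m + 1) (by omega) h' ?_
        ⟨_, uSq_deg2 (n := m + 1) ht, ?_⟩
      · simp [h', counit_sq, hε]
      · have hc : ∀ z : H ⊗[k] H, TensorProduct.map (red k H) (red k H)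
            (TensorProduct.map (sq k H) (sq k H) z) =
            TensorProduct.map (sq k H) (sq k H) (TensorProduct.map (red k H) (red k H) z) := by
          intro z
          induction z using TensorProduct.induction_on with
          | zero => simp
          | add x y hx hy => simp only [map_add, hx, hy]
          | tmul a b =>
            have : sq k H 1 = 1 := by simp [sq, Algebra.TensorProduct.one_def]
            simp [counit_sq, map_sub, map_smul, this]
        have hc' : ∀ z : U ⊗[k] U, TensorProduct.map (sq k H) (sq k H) (Φ₂ z) =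
            Φ₂ (TensorProduct.map (uSq k L) (uSq k L) z) := by
          intro z
          induction z using TensorProduct.induction_on with
          | zero => simp
          | add x y hx hy => simp only [map_add, hx, hy]
          | tmul a b => simp [sq_hom Φ hΦ]
        rw [map_sub, map_smul, map_sub, map_smul, comul_sq, hc, he, ← hc, hc', map_sub, map_smul,
          map_sub, map_smul]
    have hmu : LinearMap.mul' k H (TensorProduct.map (red k H) (red k H) (comul (R := k) h)) =
        sq k H h - (2 : k) • h := by
      rw [red_comul, hε, zero_smul, add_zero, map_sub, map_sub, LinearMap.mul'_apply,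
        LinearMap.mul'_apply, mul_one, one_mul, two_smul, sub_sub]
      rfl
    have hmem : sq k H h - (2 : k) • h ∈ Φ.range := by
      rw [← hmu, he]
      clear he ht
      induction t using TensorProduct.induction_on with
      | zero => simp
      | add x y hx hy => simp only [map_add]; exact add_mem hx hy
      | tmul a b =>
        simp only [TensorProduct.map_tmul, AlgHom.toLinearMap_apply, LinearMap.mul'_apply, red_apply]
        exact mul_mem (sub_mem ⟨a, rfl⟩ (Subalgebra.smul_mem _ (one_mem _) _))
          (sub_mem ⟨b, rfl⟩ (Subalgebra.smul_mem _ (one_mem _) _))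
    have hfin : ((2 : k) - (2 : k) ^ (m + 2)) • h ∈ Φ.range := by
      have := sub_mem hh' hmem
      rwa [sub_sub_sub_cancel_left, ← sub_smul] at this
    have hne : (2 : k) - (2 : k) ^ (m + 2) ≠ 0 := by
      have h : ((2 : ℕ) : k) ≠ ((2 ^ (m + 2) : ℕ) : k) := by
        simp only [ne_eq, Nat.cast_inj]
        have : 2 ^ 2 ≤ 2 ^ (m + 2) := Nat.pow_le_pow_right (by omega) (by omega)
        omega
      rw [sub_ne_zero]
      simpa using h
    have := Subalgebra.smul_mem _ hfin ((2 : k) - (2 : k) ^ (m + 2))⁻¹
    rwa [smul_smul, inv_mul_cancel₀ hne, one_smul] at this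

theorem surjective_of_connected [Coalgebra.IsCocomm k H] [CharZero k]
    (hconn : SGA3y.IsConnectedCoalg k H)
    (hprim : ∀ p : H, comul (R := k) p = p ⊗ₜ[k] (1 : H) + (1 : H) ⊗ₜ[k] p → p ∈ Φ.range) :
    Function.Surjective Φ := by
  suffices h : ∀ n, ∀ a ∈ fil k H n, a ∈ Φ.range from fun a => by
    obtain ⟨n, hn⟩ := exists_mem_fil hconn a
    exact h n a hn
  intro n
  induction n with
  | zero =>
    rintro a ⟨c, rfl⟩
    exact Subalgebra.smul_mem _ (one_mem _) c
  | succ n ih =>
    intro a ha
    suffices h : a - counit (R := k) a • 1 ∈ Φ.range by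
      simpa using add_mem h (Subalgebra.smul_mem _ (one_mem Φ.range) (counit (R := k) a))
    let a' := a - counit (R := k) a • (1 : H)
    have hε : counit (R := k) a' = 0 := by simp [a']
    have hr : TensorProduct.map (red k H) (red k H) (comul (R := k) a') =
        TensorProduct.map (red k H) (red k H) (comul (R := k) a) := by
      simp [a', Algebra.TensorProduct.one_def]
    obtain ⟨z, hz⟩ := reduced_mem ha
    rw [← red_comul] at hz
    obtain ⟨t, ht⟩ : ∃ t : U ⊗[k] U, Φ₂ t =
        TensorProduct.map ((fil k H n).restrictScalars k).subtype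
          ((fil k H n).restrictScalars k).subtype z := by
      clear hz
      induction z using TensorProduct.induction_on with
      | zero => exact ⟨0, by simp⟩
      | add x y hx hy =>
        obtain ⟨s, hs⟩ := hx
        obtain ⟨t, ht⟩ := hy
        exact ⟨s + t, by rw [map_add, map_add, hs, ht]⟩
      | tmul x y =>
        obtain ⟨p, hp⟩ := ih x x.2
        obtain ⟨q, hq⟩ := ih y y.2
        exact ⟨p ⊗ₜ q, by simpa [← hp, ← hq]⟩
    obtain ⟨N, hN⟩ : ∃ N, t ∈ deg2 k L N := by
      clear ht
      induction t using TensorProduct.induction_on with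
      | zero => exact ⟨0, zero_mem _⟩
      | add x y hx hy =>
        obtain ⟨i, hi⟩ := hx
        obtain ⟨j, hj⟩ := hy
        exact ⟨max i j, add_mem (deg2_mono (le_max_left i j) hi) (deg2_mono (le_max_right i j) hj)⟩
      | tmul a b =>
        obtain ⟨i, hi⟩ := exists_mem_deg a
        obtain ⟨j, hj⟩ := exists_mem_deg b
        exact ⟨i + j, tmul_mem_deg2 (by omega) hi hj⟩
    refine mem_range_of_reduced Φ hΦ hprim N a' hε ⟨t, hN, ?_⟩
    rw [hr, ht, hz]
    have hidem : ∀ w : H ⊗[k] H, TensorProduct.map (red k H) (red k H)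
        (TensorProduct.map (red k H) (red k H) w) = TensorProduct.map (red k H) (red k H) w := by
      intro w
      induction w using TensorProduct.induction_on with
      | zero => simp
      | add x y hx hy => simp only [map_add, hx, hy]
      | tmul a b => simp
    rw [hidem]

end Hom

end Groth.Agent.CMM
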